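import Cfsg.Agent.HigSims.Out
import Cfsg.Agent.HSRecog.Top.Data

/-!
The centraliser of an involution without fixed points in the Higman-Sims group: its subgroups that avoid the
other class of involutions are small, and it has many involutions of that class.
-/

set_option autoImplicit false
set_option maxRecDepth 100000
set_option maxHeartbeats 400000
set_option linter.all false

namespace Cfsg.Agent.HSRecog.Top

open Cfsg Cfsg.Agent.Compute Cfsg.Agent.StemCert Cfsg.Agent.LeechModel Cfsg.Agent.HigSims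

/-- The centraliser. -/
noncomputable abbrev KK : Subgroup ↥Spor.HS := Subgroup.centralizer ({tInv} : Set ↥Spor.HS)

/-- Its generators. -/
noncomputable def kGen (s : ℕ) : ↥Spor.HS := evalW HigSims.gen (Out.cent0Gens.getD s [])

theorem kGen_coded : Coded (w := 7) (k := 5) ι kGen Out.cent0Codes :=
  coded_of_wordsB coded cent_ok.2.1

/-- The value of a word of the centraliser. -/
noncomputable def kv (a : List ℕ) : ↥Spor.HS := evalW kGen a

theorem kGen_mem (s : ℕ) : kGen s ∈ KK := by
  rw [Subgroup.mem_centralizer_singleton_iff]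
  obtain ⟨h1, -, -⟩ := cent_ok
  simp only [commB, Bool.and_eq_true] at h1
  by_cases hs : s < Out.cent0Gens.length
  · have hu := allB_spec h1.2 (Out.cent0Gens.getD s [])
      (by rw [List.getD_eq_getElem _ _ hs]; exact List.getElem_mem _)
    simp only [Bool.and_eq_true] at hu
    have hul : ∀ a ∈ Out.cent0Gens.getD s [], a < 7 := fun a ha => Nat.blt_eq.mp (allB_spec hu.1 a ha)
    have := eq_of_eqOn coded base_isBase (a := Out.cent0Gens.getD s [] ++ Out.tWord)
      (b := Out.tWord ++ Out.cent0Gens.getD s [])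
      (fun a ha => (List.mem_append.mp ha).elim (hul a) (tWord_lt a))
      (fun a ha => (List.mem_append.mp ha).elim (tWord_lt a) (hul a)) hu.2
    rwa [evalW_append, evalW_append] at this
  · simp [kGen, List.getD_eq_getElem?_getD, List.getElem?_eq_none (by omega : Out.cent0Gens.length ≤ s), evalW]

theorem kv_mem (a : List ℕ) : kv a ∈ KK :=
  list_prod_mem fun y hy => by
    obtain ⟨s, -, rfl⟩ := List.mem_map.mp hy
    exact kGen_mem s

/-- The same word as an element of the centraliser. -/
noncomputable def kvK (a : List ℕ) : ↥KK := ⟨kv a, kv_mem a⟩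

/-- All letters are generators of the centraliser. -/
noncomputable def okW (a : List ℕ) : Bool := allB (fun s => Nat.blt s 5) a

/-- The two words have the same value. -/
noncomputable def eqK (a b : List ℕ) : Bool :=
  okW a && okW b && eqOn 7 Out.cent0Codes Model.base a b

theorem okW_spec {a : List ℕ} (h : okW a = true) : ∀ s ∈ a, s < 5 :=
  fun s hs => Nat.blt_eq.mp (allB_spec h s hs)

theorem eqK_spec {a b : List ℕ} (h : eqK a b = true) : kvK a = kvK b := by
  simp only [eqK, Bool.and_eq_true] at h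
  exact Subtype.ext (eq_of_eqOn kGen_coded base_isBase (okW_spec h.1.1) (okW_spec h.1.2) h.2)

theorem eqOn_of_eq {a b : List ℕ} (ha : okW a = true) (hb : okW b = true) (h : kvK a = kvK b) :
    eqOn 7 Out.cent0Codes Model.base a b = true :=
  allB_of_forall fun p hp => by
    have h' : kv a = kv b := congrArg Subtype.val h
    have e1 := appW_spec kGen_coded a (okW_spec ha) ⟨p, base_lt p hp⟩
    have e2 := appW_spec kGen_coded b (okW_spec hb) ⟨p, base_lt p hp⟩
    rw [show evalW kGen a = evalW kGen b from h'] at e1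
    rw [Nat.beq_eq]
    exact e1.symm.trans e2

theorem kvK_append (a b : List ℕ) : kvK (a ++ b) = kvK a * kvK b :=
  Subtype.ext (evalW_append kGen a b)

theorem kvK_nil : kvK [] = 1 := Subtype.ext rfl

/-- Membership in the class of involutions with fixed points. -/
def InT (x : ↥KK) : Prop := IsConj uInv (x : ↥Spor.HS)

theorem tInv_ne : ¬ IsConj uInv tInv := by
  intro h
  obtain ⟨g, hg⟩ := isConj_iff.mp h
  have h2 := card_centralizer_u
  rw [← card_centralizer_map (MulAut.conj g) uInv, show MulAut.conj g uInv = tInv from hg,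
    card_centralizer] at h2
  norm_num at h2

theorem t_fix_free : allBelow 100 (fun p => !(Nat.beq (appW 7 Model.codes Out.tWord p) p)) = true := by
  decide +kernel

/-- The word is an involution with a fixed point. -/
noncomputable def invFixB (a : List ℕ) : Bool :=
  okW a && eqOn 7 Out.cent0Codes Model.base (a ++ a) [] &&
    !(eqOn 7 Out.cent0Codes Model.base a []) &&
      !(allBelow 100 fun p => !(Nat.beq (appW 7 Out.cent0Codes a p) p))

theorem inT_of_invFix {a : List ℕ} (h : invFixB a = true) : InT (kvK a) := by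
  simp only [invFixB, Bool.and_eq_true, Bool.not_eq_true'] at h
  obtain ⟨⟨⟨h1, h2⟩, h3⟩, h4⟩ := h
  have hal := okW_spec h1
  have hsq : kv a * kv a = 1 := by
    have := eq_of_eqOn kGen_coded base_isBase (a := a ++ a) (b := [])
      (fun s hs => (List.mem_append.mp hs).elim (hal s) (hal s)) (by simp) h2
    rwa [evalW_append] at this
  have hne : kv a ≠ 1 := by
    intro e
    rw [eqOn_of_eq h1 (show okW [] = true from rfl) (Subtype.ext e : kvK a = kvK [])] at h3
    exact Bool.noConfusion h3
  have hord : orderOf (kv a) = 2 := orderOf_eq_prime (by rw [sq]; exact hsq) hne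
  rcases conj_cases (kv a) hord with hc | hc
  · exfalso
    obtain ⟨g, hg⟩ := isConj_iff.mp hc
    have hex : ∃ p : Fin 100, ι (kv a) p = p := by
      by_contra hno
      simp only [not_exists] at hno
      have : allBelow 100 (fun p => !(Nat.beq (appW 7 Out.cent0Codes a p) p)) = true :=
        allBelow_eq_true.mpr fun p hp => by
          rw [Bool.not_eq_true', Bool.eq_false_iff]
          intro e
          exact hno ⟨p, hp⟩ (Fin.ext ((appW_spec kGen_coded a hal ⟨p, hp⟩).trans
            (Nat.eq_of_beq_eq_true e)))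
      rw [this] at h4
      exact Bool.noConfusion h4
    obtain ⟨p, hp⟩ := hex
    rw [← hg, map_mul, map_mul, map_inv, Equiv.Perm.mul_apply, Equiv.Perm.mul_apply] at hp
    set q := (ι g)⁻¹ p
    have hp' : ι tInv q = q := by
      apply (ι g).injective
      rw [hp]
      show p = ι g ((ι g)⁻¹ p)
      simp
    have := allBelow_eq_true.mp t_fix_free q q.2
    rw [← appW_spec coded Out.tWord tWord_lt q] at this
    rw [show evalW HigSims.gen Out.tWord = tInv from rfl, hp'] at this
    simp at this
  · exact hc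

theorem InT.conj {x : ↥KK} (h : InT x) (g : ↥KK) : InT (g * x * g⁻¹) :=
  IsConj.trans (b := (x : ↥Spor.HS)) h (isConj_iff.mpr ⟨g, rfl⟩)

/-- The central involution as an element of the centraliser. -/
noncomputable def uK : ↥KK := ⟨tInv, by rw [Subgroup.mem_centralizer_singleton_iff]⟩

theorem uK_central (x : ↥KK) : x * uK = uK * x :=
  Subtype.ext (Subgroup.mem_centralizer_singleton_iff.mp x.2)

/-- The entry of the table. -/
def tb (i j : ℕ) : ℕ := getField 6 (Data.sylTab.getD i 0) j

/-- The flag. -/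
def fl (i : ℕ) : Bool := Nat.beq (getField 1 Data.flags i) 1

/-- The listed element. -/
noncomputable def el (i : ℕ) : ↥KK := kvK (Data.sylWords.getD i [])

/-- The table is the multiplication table of the listed elements. -/
noncomputable def tabB (i : ℕ) : Bool :=
  allBelow 64 fun j => Nat.blt (tb i j) 64 &&
    eqK (Data.sylWords.getD i [] ++ Data.sylWords.getD j []) (Data.sylWords.getD (tb i j) [])

theorem tab_ok : allBelow 64 tabB = true := by decide +kernel

theorem tb_lt {i j : ℕ} (hi : i < 64) (hj : j < 64) : tb i j < 64 := by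
  have h := allBelow_eq_true.mp (allBelow_eq_true.mp tab_ok i hi) j hj
  simp only [Bool.and_eq_true, Nat.blt_eq] at h
  exact h.1

theorem el_mul {i j : ℕ} (hi : i < 64) (hj : j < 64) : el i * el j = el (tb i j) := by
  have h := allBelow_eq_true.mp (allBelow_eq_true.mp tab_ok i hi) j hj
  simp only [Bool.and_eq_true] at h
  rw [el, el, ← kvK_append]
  exact eqK_spec h.2

theorem el_zero : el 0 = 1 := kvK_nil

theorem iu_ok : allB (fun p => Nat.beq (appW 7 Out.cent0Codes (Data.sylWords.getD Data.iu []) p)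
    (appW 7 Model.codes Out.tWord p)) Model.base = true ∧ okW (Data.sylWords.getD Data.iu []) = true ∧
    Data.iu < 64 := by
  refine ⟨?_, ?_, ?_⟩ <;> decide +kernel

theorem el_iu : el Data.iu = uK := by
  obtain ⟨h1, h2, -⟩ := iu_ok
  refine Subtype.ext ((inv_mul_eq_one.mp (base_isBase.2 _ fun x hx => ?_)).symm)
  have he : ι (kv (Data.sylWords.getD Data.iu [])) x = ι tInv x := Fin.ext (by
    rw [kv, appW_spec kGen_coded _ (okW_spec h2), show tInv = evalW HigSims.gen Out.tWord from rfl,
      appW_spec coded _ tWord_lt]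
    exact Nat.eq_of_beq_eq_true (allB_spec h1 _ hx))
  show ι (tInv⁻¹ * kv (Data.sylWords.getD Data.iu [])) x = x
  rw [map_mul, map_inv, Equiv.Perm.mul_apply, he, Equiv.Perm.inv_eq_iff_eq]

theorem distinct_ok : (Data.sylWords.map (wordKey 7 Out.cent0Codes Model.base)).Nodup ∧
    Data.sylWords.length = 64 ∧ allB okW Data.sylWords = true := by
  refine ⟨?_, ?_, ?_⟩ <;> decide +kernel

theorem wordKey_congr {a b : List ℕ} : ∀ pts : List ℕ,
    (∀ p ∈ pts, appW 7 Out.cent0Codes a p = appW 7 Out.cent0Codes b p) →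
      wordKey 7 Out.cent0Codes pts a = wordKey 7 Out.cent0Codes pts b
  | [], _ => rfl
  | p :: ps, h => by
    show Nat.add (appW 7 Out.cent0Codes a p) (Nat.shiftLeft (wordKey 7 Out.cent0Codes ps a) 7) =
      Nat.add (appW 7 Out.cent0Codes b p) (Nat.shiftLeft (wordKey 7 Out.cent0Codes ps b) 7)
    rw [h p (by simp), wordKey_congr ps fun q hq => h q (List.mem_cons_of_mem _ hq)]

theorem inj_of_keys {ws : List (List ℕ)}
    (hn : (ws.map (wordKey 7 Out.cent0Codes Model.base)).Nodup) (hok : allB okW ws = true)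
    {i j : ℕ} (hi : i < ws.length) (hj : j < ws.length)
    (e : kvK (ws.getD i []) = kvK (ws.getD j [])) : i = j := by
  have hok' : ∀ k < ws.length, okW (ws.getD k []) = true := fun k hk => by
    refine allB_spec hok _ ?_
    rw [List.getD_eq_getElem _ _ hk]; exact List.getElem_mem _
  have h := eqOn_of_eq (hok' i hi) (hok' j hj) e
  refine (hn.getElem_inj_iff (hi := by simpa using hi) (hj := by simpa using hj)).mp ?_
  rw [List.getElem_map, List.getElem_map, ← List.getD_eq_getElem ws [] hi,
    ← List.getD_eq_getElem ws [] hj]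
  exact wordKey_congr _ fun p hp => Nat.eq_of_beq_eq_true (allB_spec h p hp)

theorem el_inj {i j : ℕ} (hi : i < 64) (hj : j < 64) (e : el i = el j) : i = j :=
  inj_of_keys distinct_ok.1 distinct_ok.2.2 (by rw [distinct_ok.2.1]; exact hi)
    (by rw [distinct_ok.2.1]; exact hj) e

/-- The subgroup of the listed elements. -/
noncomputable def syl : Subgroup ↥KK :=
  let S : Submonoid ↥KK :=
    { carrier := {x | ∃ i < 64, el i = x}
      mul_mem' := by
        rintro _ _ ⟨i, hi, rfl⟩ ⟨j, hj, rfl⟩
        exact ⟨tb i j, tb_lt hi hj, (el_mul hi hj).symm⟩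
      one_mem' := ⟨0, by norm_num, el_zero⟩ }
  { S with
    inv_mem' := fun {x} hx => by
      obtain ⟨k, hk⟩ : ∃ k : ℕ, x ^ k = x⁻¹ :=
        ⟨orderOf x - 1, eq_inv_of_mul_eq_one_left (by
          rw [← pow_succ, Nat.sub_add_cancel (orderOf_pos x)]; exact pow_orderOf_eq_one x)⟩
      exact hk ▸ S.pow_mem hx k }

theorem mem_syl {x : ↥KK} : x ∈ syl ↔ ∃ i < 64, el i = x := Iff.rfl

theorem card_syl : Nat.card syl = 64 := by
  have hf : Function.Bijective (fun i : Fin 64 => (⟨el i, i, i.2, rfl⟩ : syl)) :=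
    ⟨fun i j e => Fin.ext (el_inj i.2 j.2 (congrArg Subtype.val e)),
     fun ⟨x, i, hi, e⟩ => ⟨⟨i, hi⟩, Subtype.ext e⟩⟩
  rw [← Nat.card_congr (Equiv.ofBijective _ hf), Nat.card_fin]

theorem card_KK : Nat.card ↥KK = 2880 := card_centralizer

theorem fact_two : (Nat.card ↥KK).factorization 2 = 6 := by
  rw [card_KK, show (2880 : ℕ) = 2 ^ 6 * 45 by norm_num, Nat.factorization_mul (by norm_num) (by norm_num),
    Finsupp.add_apply, Nat.Prime.factorization_pow Nat.prime_two, Finsupp.single_eq_same,
    Nat.factorization_eq_zero_of_not_dvd (by norm_num)]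

theorem fact_five : (Nat.card ↥KK).factorization 5 = 1 := by
  rw [card_KK, show (2880 : ℕ) = 5 ^ 1 * 576 by norm_num, Nat.factorization_mul (by norm_num) (by norm_num),
    Finsupp.add_apply, Nat.Prime.factorization_pow (by norm_num : Nat.Prime 5), Finsupp.single_eq_same,
    Nat.factorization_eq_zero_of_not_dvd (by norm_num)]

theorem flag_ok : allBelow 64 (fun i => !(fl i) || invFixB (Data.sylWords.getD i [])) = true := by
  decide +kernel

theorem el_inT {i : ℕ} (hi : i < 64) (h : fl i = true) : InT (el i) := by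
  have := allBelow_eq_true.mp flag_ok i hi
  rw [h] at this
  exact inT_of_invFix (by simpa using this)

/-- Elements in the subgroup generated by two elements and the central involution. -/
def probes (a b : ℕ) : List ℕ :=
  [a, tb a Data.iu, tb a b, tb (tb a b) Data.iu, tb a a, tb (tb (tb a a) b) Data.iu,
    tb (tb a a) (tb a a), tb (tb a b) (tb a b), tb (tb a b) a, tb (tb a a) (tb b b)]

/-- One of the probes is an involution with fixed points, unless the pair is degenerate. -/
noncomputable def pairB (a : ℕ) : Bool :=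
  Nat.beq a 0 || Nat.beq a Data.iu || allBelow 64 fun b =>
    Nat.beq b 0 || Nat.beq b Data.iu || Nat.beq b a || Nat.beq b (tb a Data.iu) ||
      !(allB (fun c => !(fl c)) (probes a b))

theorem pair_ok : allBelow 64 pairB = true := by decide +kernel

theorem probes_mem {A : Set ℕ} (hA : ∀ i ∈ A, ∀ j ∈ A, tb i j ∈ A) (hu : Data.iu ∈ A) {a b : ℕ}
    (ha : a ∈ A) (hb : b ∈ A) : ∀ c ∈ probes a b, c ∈ A := by
  intro c hc
  simp only [probes, List.mem_cons, List.not_mem_nil, or_false] at hc
  rcases hc with rfl | rfl | rfl | rfl | rfl | rfl | rfl | rfl | rfl | rfl <;>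
    first
    | assumption
    | exact hA _ ha _ hu
    | exact hA _ ha _ hb
    | exact hA _ ha _ ha
    | exact hA _ (hA _ ha _ hb) _ hu
    | exact hA _ (hA _ (hA _ ha _ ha) _ hb) _ hu
    | exact hA _ (hA _ ha _ ha) _ (hA _ ha _ ha)
    | exact hA _ (hA _ ha _ hb) _ (hA _ ha _ hb)
    | exact hA _ (hA _ ha _ hb) _ ha
    | exact hA _ (hA _ ha _ ha) _ (hA _ hb _ hb)

/-- A 2-subgroup with the central involution and without the other class has at most four elements. -/
theorem two_small (Q : Subgroup ↥KK) (hQ : IsPGroup 2 Q) (hu : uK ∈ Q) (hT : ∀ x ∈ Q, ¬ InT x) :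
    Nat.card Q ≤ 4 := by
  classical
  have := Fact.mk Nat.prime_two
  let S : Sylow 2 ↥KK := Sylow.ofCard syl (by rw [card_syl, fact_two]; norm_num)
  obtain ⟨R, hR⟩ := hQ.exists_le_sylow
  obtain ⟨x, hx⟩ := MulAction.exists_smul_eq ↥KK R S
  have hsyl : ∀ q ∈ Q, x * q * x⁻¹ ∈ syl := by
    intro q hq
    show x * q * x⁻¹ ∈ (S : Subgroup ↥KK)
    rw [← hx, Sylow.coe_subgroup_smul]
    exact Subgroup.smul_mem_pointwise_smul _ (MulAut.conj x) _ (hR hq)
  choose idx hidx using fun q : Q => mem_syl.mp (hsyl q q.2)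
  have hinj : Function.Injective idx := by
    intro p q e
    have h1 := (hidx p).2
    rw [e, (hidx q).2] at h1
    exact Subtype.ext (mul_left_cancel (mul_right_cancel h1)).symm
  set A : Set ℕ := Set.range idx
  have hA : ∀ i ∈ A, ∀ j ∈ A, tb i j ∈ A := by
    rintro _ ⟨p, rfl⟩ _ ⟨q, rfl⟩
    refine ⟨p * q, el_inj (hidx (p * q)).1 (tb_lt (hidx p).1 (hidx q).1) ?_⟩
    rw [(hidx (p * q)).2, ← el_mul (hidx p).1 (hidx q).1, (hidx p).2, (hidx q).2, Subgroup.coe_mul]
    group
  have hfl : ∀ i ∈ A, fl i = false := by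
    rintro _ ⟨q, rfl⟩
    by_contra hf
    have h1 := el_inT (hidx q).1 (Bool.eq_true_of_not_eq_false hf)
    rw [(hidx q).2] at h1
    refine hT q q.2 ?_
    have := h1.conj x⁻¹
    rwa [show x⁻¹ * (x * (q : ↥KK) * x⁻¹) * x⁻¹⁻¹ = q by group] at this
  have hiu : Data.iu ∈ A := by
    refine ⟨⟨uK, hu⟩, el_inj (hidx ⟨uK, hu⟩).1 iu_ok.2.2 ?_⟩
    rw [(hidx ⟨uK, hu⟩).2, el_iu]
    show x * uK * x⁻¹ = uK
    rw [uK_central x, mul_inv_cancel_right]
  have hlt : ∀ i ∈ A, i < 64 := by
    rintro _ ⟨q, rfl⟩
    exact (hidx q).1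
  have hsmall : ∀ a ∈ A, a ≠ 0 → a ≠ Data.iu → A ⊆ ({0, Data.iu, a, tb a Data.iu} : Finset ℕ) := by
    intro a ha a0 au b hb
    have h := allBelow_eq_true.mp pair_ok a (hlt a ha)
    simp only [pairB, Bool.or_eq_true, Nat.beq_eq] at h
    rcases h with (h | h) | h
    · exact absurd h a0
    · exact absurd h au
    have h' := allBelow_eq_true.mp h b (hlt b hb)
    simp only [Bool.or_eq_true, Nat.beq_eq] at h'
    rcases h' with (((h' | h') | h') | h') | h'
    · simp [h']
    · simp [h']
    · simp [h']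
    · simp [h']
    · exfalso
      have : allB (fun c => !(fl c)) (probes a b) = true :=
        allB_of_forall fun c hc => by rw [hfl c (probes_mem hA hiu ha hb c hc)]; rfl
      rw [this] at h'
      simp at h'
  have hcardA : Nat.card Q = A.ncard := by
    rw [← Nat.card_coe_set_eq]
    exact Nat.card_congr (Equiv.ofInjective idx hinj)
  rw [hcardA]
  by_cases h : ∃ a ∈ A, a ≠ 0 ∧ a ≠ Data.iu
  · obtain ⟨a, ha, a0, au⟩ := h
    calc A.ncard ≤ (({0, Data.iu, a, tb a Data.iu} : Finset ℕ) : Set ℕ).ncard :=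
          Set.ncard_le_ncard (hsmall a ha a0 au) (Finset.finite_toSet _)
      _ = ({0, Data.iu, a, tb a Data.iu} : Finset ℕ).card := Set.ncard_coe_finset _
      _ ≤ 4 := Finset.card_le_four
  · simp only [not_exists, not_and, not_not] at h
    calc A.ncard ≤ (({0, Data.iu} : Finset ℕ) : Set ℕ).ncard := by
          refine Set.ncard_le_ncard (fun a ha => ?_) (Finset.finite_toSet _)
          simp only [Finset.coe_insert, Finset.coe_singleton, Set.mem_insert_iff, Set.mem_singleton_iff]
          exact (em (a = 0)).imp id (h a ha)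
      _ = ({0, Data.iu} : Finset ℕ).card := Set.ncard_coe_finset _
      _ ≤ 4 := le_trans Finset.card_le_two (by norm_num)

/-- The elements of order five. -/
noncomputable def five (i : ℕ) : ↥KK := kvK (Data.fiveWords.getD i [])

/-- Repeated word. -/
def repW : ℕ → List ℕ → List ℕ
  | 0, _ => []
  | k + 1, a => a ++ repW k a

theorem kvK_repW (a : List ℕ) : ∀ k, kvK (repW k a) = kvK a ^ k
  | 0 => by rw [pow_zero, repW, kvK_nil]
  | k + 1 => by rw [repW, kvK_append, kvK_repW a k, pow_succ']

/-- The checks on the elements of order five. -/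
noncomputable def fiveB (i : ℕ) : Bool :=
  let w := Data.fiveWords.getD i []
  okW w && eqK (repW 5 w) [] && !(eqOn 7 Out.cent0Codes Model.base w []) &&
    allBelow 17 fun j => Nat.beq i j || allBelow 5 fun k =>
      !(eqOn 7 Out.cent0Codes Model.base (Data.fiveWords.getD j []) (repW k w))

theorem five_ok : allBelow 17 fiveB = true := by decide +kernel

theorem four_ok : eqK (repW 4 Data.fourWord) [] = true ∧
    eqOn 7 Out.cent0Codes Model.base (repW 2 Data.fourWord) [] = false ∧
    okW (repW 2 Data.fourWord) = true ∧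
    eqK (Data.fourWord ++ Data.fiveWords.getD 0 [])
      (repW 2 (Data.fiveWords.getD 0 []) ++ Data.fourWord) = true := by
  refine ⟨?_, ?_, ?_, ?_⟩ <;> decide +kernel

theorem rep_ok : allBelow 17 (fun i => allBelow 5 fun k => okW (repW k (Data.fiveWords.getD i []))) =
    true := by decide +kernel

theorem orderOf_five {i : ℕ} (hi : i < 17) : orderOf (five i) = 5 := by
  have := Fact.mk (by norm_num : Nat.Prime 5)
  have h := allBelow_eq_true.mp five_ok i hi
  simp only [fiveB, Bool.and_eq_true, Bool.not_eq_true'] at h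
  refine orderOf_eq_prime ?_ fun e => ?_
  · rw [five, ← kvK_repW, eqK_spec h.1.1.2, kvK_nil]
  · have := eqOn_of_eq h.1.1.1 (show okW [] = true from rfl) (e.trans kvK_nil.symm)
    rw [this] at h
    exact Bool.noConfusion h.1.2

theorem five_distinct {i j : ℕ} (hi : i < 17) (hj : j < 17) (h : five j ∈ Subgroup.zpowers (five i)) :
    i = j := by
  by_contra hne
  obtain ⟨k, hk, e⟩ : ∃ k < 5, five i ^ k = five j := by
    obtain ⟨z, hz⟩ := Subgroup.mem_zpowers_iff.mp h
    refine ⟨(z % 5).toNat, by omega, ?_⟩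
    rw [← zpow_natCast, Int.toNat_of_nonneg (by omega), ← hz]
    conv_rhs => rw [← zpow_mod_orderOf, orderOf_five hi]
    norm_num
  have h0 := allBelow_eq_true.mp five_ok i hi
  simp only [fiveB, Bool.and_eq_true, Bool.not_eq_true'] at h0
  have h1 := allBelow_eq_true.mp h0.2 j hj
  simp only [Bool.or_eq_true, Nat.beq_eq] at h1
  have h2 := allBelow_eq_true.mp (h1.resolve_left hne) k hk
  simp only [Bool.not_eq_true'] at h2
  have hj' := allBelow_eq_true.mp five_ok j hj
  simp only [fiveB, Bool.and_eq_true] at hj'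
  rw [eqOn_of_eq hj'.1.1.1 (allBelow_eq_true.mp (allBelow_eq_true.mp rep_ok i hi) k hk)
    (by rw [kvK_repW]; exact e.symm)] at h2
  exact Bool.noConfusion h2

/-- No element of order three normalises a subgroup of order five. -/
theorem no_three (P : Sylow 5 ↥KK) : ¬ 3 ∣ Nat.card (Subgroup.normalizer ((P : Subgroup ↥KK) : Set ↥KK)) := by
  classical
  have := Fact.mk (by norm_num : Nat.Prime 5)
  have hP0c : Nat.card (Subgroup.zpowers (five 0)) = 5 ^ (Nat.card ↥KK).factorization 5 := by
    rw [Nat.card_zpowers, orderOf_five (by norm_num), fact_five, pow_one]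
  let P0 : Sylow 5 ↥KK := Sylow.ofCard _ hP0c
  have hy : kvK Data.fourWord ∈ Subgroup.normalizer ((P0 : Subgroup ↥KK) : Set ↥KK) := by
    refine mem_normalizer_of_le _ _ ?_
    intro z hz
    obtain ⟨k, rfl⟩ := Subgroup.mem_zpowers_iff.mp hz
    have e := eqK_spec four_ok.2.2.2
    rw [kvK_append, kvK_append, kvK_repW] at e
    rw [← conj_zpow, show kvK Data.fourWord * five 0 * (kvK Data.fourWord)⁻¹ = five 0 ^ 2 from
      mul_inv_eq_iff_eq_mul.mpr e]
    exact Subgroup.zpow_mem _ (Subgroup.pow_mem _ (Subgroup.mem_zpowers _) _) _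
  have ho4 : orderOf (kvK Data.fourWord) = 4 := by
    have h4 : kvK Data.fourWord ^ 4 = 1 := by rw [← kvK_repW, eqK_spec four_ok.1, kvK_nil]
    have h2 : ¬ kvK Data.fourWord ^ 2 = 1 := by
      intro e
      have := eqOn_of_eq four_ok.2.2.1 (show okW [] = true from rfl)
        (by rw [kvK_repW, kvK_nil]; exact e)
      rw [four_ok.2.1] at this
      exact Bool.noConfusion this
    exact orderOf_eq_prime_pow (p := 2) (n := 1) (by simpa using h2) (by simpa using h4)
  have hN4 : 4 ∣ Nat.card (Subgroup.normalizer ((P0 : Subgroup ↥KK) : Set ↥KK)) :=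
    ho4 ▸ Subgroup.orderOf_dvd_natCard _ hy
  have hN5 : 5 ∣ Nat.card (Subgroup.normalizer ((P0 : Subgroup ↥KK) : Set ↥KK)) := by
    have h := Subgroup.card_dvd_of_le (Subgroup.le_normalizer (H := (P0 : Subgroup ↥KK)))
    rwa [show Nat.card (P0 : Subgroup ↥KK) = 5 by
      show Nat.card (Subgroup.zpowers (five 0)) = 5
      rw [Nat.card_zpowers, orderOf_five (by norm_num)]] at h
  have hprod : ∀ Q : Sylow 5 ↥KK,
      Nat.card (Sylow 5 ↥KK) * Nat.card (Subgroup.normalizer ((Q : Subgroup ↥KK) : Set ↥KK)) = 2880 := by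
    intro Q
    rw [Sylow.card_eq_index_normalizer Q, ← card_KK]
    exact Subgroup.index_mul_card _
  have h17 : 17 ≤ Nat.card (Sylow 5 ↥KK) := by
    have hc : ∀ i : Fin 17, Nat.card (Subgroup.zpowers (five i)) = 5 ^ (Nat.card ↥KK).factorization 5 :=
      fun i => by rw [Nat.card_zpowers, orderOf_five i.2, fact_five, pow_one]
    have hinj : Function.Injective fun i : Fin 17 => Sylow.ofCard _ (hc i) := by
      intro i j e
      refine Fin.ext (five_distinct i.2 j.2 ?_)
      have h' : Subgroup.zpowers (five i) = Subgroup.zpowers (five j) :=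
        congrArg (fun Q : Sylow 5 ↥KK => (Q : Subgroup ↥KK)) e
      rw [h']
      exact Subgroup.mem_zpowers _
    simpa using Nat.card_le_card_of_injective _ hinj
  have hmod : Nat.card (Sylow 5 ↥KK) % 5 = 1 := card_sylow_modEq_one 5 ↥KK
  intro h3
  set n := Nat.card (Sylow 5 ↥KK)
  have h20 : 20 ∣ Nat.card (Subgroup.normalizer ((P0 : Subgroup ↥KK) : Set ↥KK)) :=
    Nat.Coprime.mul_dvd_of_dvd_of_dvd (by norm_num : Nat.Coprime 4 5) hN4 hN5
  obtain ⟨k, hk⟩ := h20
  obtain ⟨l, hl⟩ := h3
  have hp0 := hprod P0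
  have hp := hprod P
  rw [hk] at hp0
  rw [hl] at hp
  have hn : n ∣ 144 := ⟨k, by linarith⟩
  have key : ∀ n ∈ Nat.divisors 144, n % 5 = 1 → 17 ≤ n → n = 36 := by decide +kernel
  have h36 := key n (Nat.mem_divisors.mpr ⟨hn, by norm_num⟩) hmod h17
  rw [h36] at hp
  omega
where
  mem_normalizer_of_le (H : Subgroup ↥KK) (g : ↥KK) (h : ∀ z ∈ H, g * z * g⁻¹ ∈ H) :
      g ∈ Subgroup.normalizer (H : Set ↥KK) := by
    have hle : H.map (MulAut.conj g).toMonoidHom ≤ H := by
      rintro _ ⟨z, hz, rfl⟩
      exact h z hz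
    have heq : H.map (MulAut.conj g).toMonoidHom = H := Subgroup.eq_of_le_of_card_ge hle
      (le_of_eq (Nat.card_congr (Subgroup.equivMapOfInjective H _ (MulAut.conj g).injective).toEquiv))
    refine Subgroup.mem_normalizer_iff.mpr fun z => ⟨h z, fun hz => ?_⟩
    rw [← heq] at hz
    obtain ⟨w, hw, e⟩ := hz
    have e' : w = z := (MulAut.conj g).injective e
    rwa [← e']

/-- A subgroup with the central involution and without the other class has at most sixty elements. -/
theorem avoid_small (D : Subgroup ↥KK) (hu : uK ∈ D) (hT : ∀ x ∈ D, ¬ InT x) : Nat.card D ≤ 60 := by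
  classical
  have := Fact.mk Nat.prime_two
  have h5 := Fact.mk (by norm_num : Nat.Prime 5)
  have hdvd : Nat.card D ∣ 2880 := card_KK ▸ Subgroup.card_subgroup_dvd_card D
  have hu2 : orderOf uK = 2 := by
    rw [← Subgroup.orderOf_coe]
    exact orderOf_tInv
  have h8 : ¬ 8 ∣ Nat.card D := by
    intro h8
    have hz : IsPGroup 2 (Subgroup.zpowers (⟨uK, hu⟩ : D)) :=
      IsPGroup.of_card (n := 1) (by rw [Nat.card_zpowers, ← Subgroup.orderOf_coe, pow_one]; exact hu2)
    obtain ⟨R, hR⟩ := hz.exists_le_sylow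
    set Q := (R : Subgroup D).map D.subtype with hQdef
    have hQ : IsPGroup 2 Q := R.2.map D.subtype
    have hle := two_small Q hQ ⟨⟨uK, hu⟩, hR (Subgroup.mem_zpowers _), rfl⟩ fun x hx =>
      hT x (Subgroup.map_subtype_le _ hx)
    rw [hQdef, Subgroup.card_map_of_injective D.subtype_injective, Sylow.card_eq_multiplicity R] at hle
    have : 3 ≤ (Nat.card D).factorization 2 :=
      (Nat.prime_two.pow_dvd_iff_le_factorization Nat.card_pos.ne').mp h8
    have : 2 ^ 3 ≤ 2 ^ (Nat.card D).factorization 2 := Nat.pow_le_pow_right (by norm_num) this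
    omega
  have h45 : ¬ 45 ∣ Nat.card D := by
    intro h45
    set P : Sylow 5 D := default
    set N := Subgroup.normalizer ((P : Subgroup D) : Set D)
    have hprod : Nat.card (Sylow 5 D) * Nat.card N = Nat.card D := by
      rw [Sylow.card_eq_index_normalizer P]
      exact Subgroup.index_mul_card _
    have hPc : Nat.card P = 5 := by
      have e : (Nat.card D).factorization 5 = 1 := by
        have h1 := (Nat.factorization_le_iff_dvd Nat.card_pos.ne' (by norm_num)).mpr hdvd 5
        have h2 := ((by norm_num : Nat.Prime 5).pow_dvd_iff_le_factorization (k := 1) Nat.card_pos.ne').mp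
          ((Dvd.intro 9 (by norm_num : 5 ^ 1 * 9 = 45)).trans h45)
        have h3 := fact_five
        rw [card_KK] at h3
        omega
      rw [Sylow.card_eq_multiplicity P, e, pow_one]
    have huN : (⟨uK, hu⟩ : D) ∈ N := by
      refine Subgroup.mem_normalizer_iff.mpr fun z => ?_
      have e : (⟨uK, hu⟩ : D) * z * (⟨uK, hu⟩ : D)⁻¹ = z :=
        mul_inv_eq_iff_eq_mul.mpr (Subtype.ext (uK_central (z : ↥KK)).symm)
      rw [e]
    have hN2 : 2 ∣ Nat.card N := by
      have h := Subgroup.orderOf_dvd_natCard N huN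
      rwa [← Subgroup.orderOf_coe, show orderOf ((⟨uK, hu⟩ : D) : ↥KK) = 2 from hu2] at h
    have hN5 : 5 ∣ Nat.card N := by
      have h := Subgroup.card_dvd_of_le (Subgroup.le_normalizer (H := (P : Subgroup D)))
      rwa [hPc] at h
    obtain ⟨k, hk⟩ : 10 ∣ Nat.card N :=
      Nat.Coprime.mul_dvd_of_dvd_of_dvd (by norm_num : Nat.Coprime 2 5) hN2 hN5
    have hmod : Nat.card (Sylow 5 D) % 5 = 1 := card_sylow_modEq_one 5 D
    have key : ∀ c ∈ Nat.divisors 2880, 45 ∣ c → ¬ 8 ∣ c → ∀ n ∈ Nat.divisors c, n % 5 = 1 →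
        10 ∣ c / n → 3 ∣ c / n := by decide +kernel
    have hN3 : 3 ∣ Nat.card N := by
      have := key _ (Nat.mem_divisors.mpr ⟨hdvd, by norm_num⟩) h45 h8 (Nat.card (Sylow 5 D))
        (Nat.mem_divisors.mpr ⟨Dvd.intro _ hprod, Nat.card_pos.ne'⟩) hmod
      have e : Nat.card D / Nat.card (Sylow 5 D) = Nat.card N :=
        Nat.div_eq_of_eq_mul_right Nat.card_pos hprod.symm
      rw [e] at this
      exact this ⟨k, hk⟩
    let PK : Sylow 5 ↥KK := Sylow.ofCard ((P : Subgroup D).map D.subtype)
      (by rw [Subgroup.card_map_of_injective D.subtype_injective, hPc, fact_five, pow_one])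
    refine no_three PK (hN3.trans ?_)
    have hle : N.map D.subtype ≤ Subgroup.normalizer ((PK : Subgroup ↥KK) : Set ↥KK) := by
      rintro _ ⟨g, hg, rfl⟩
      refine no_three.mem_normalizer_of_le _ _ ?_
      rintro _ ⟨z, hz, rfl⟩
      exact ⟨g * z * g⁻¹, (Subgroup.mem_normalizer_iff.mp hg z).mp hz, rfl⟩
    have := Subgroup.card_dvd_of_le hle
    rwa [Subgroup.card_map_of_injective D.subtype_injective] at this
  have key : ∀ c ∈ Nat.divisors 2880, ¬ 8 ∣ c → ¬ 45 ∣ c → c ≤ 60 := by decide +kernel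
  exact key _ (Nat.mem_divisors.mpr ⟨hdvd, by norm_num⟩) h8 h45

theorem z_ok : allB invFixB Data.zWords = true ∧ Data.zWords.length = 64 ∧
    allB okW Data.zWords = true ∧ (Data.zWords.map (wordKey 7 Out.cent0Codes Model.base)).Nodup := by
  refine ⟨?_, ?_, ?_, ?_⟩ <;> decide +kernel

/-- The centraliser has at least sixty-four involutions of the other class. -/
theorem exists_many : ∃ z : Fin 64 → ↥KK, Function.Injective z ∧ ∀ i, InT (z i) := by
  obtain ⟨h1, h2, h3, h4⟩ := z_ok
  refine ⟨fun i => kvK (Data.zWords.getD i []),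
    fun i j e => Fin.ext (inj_of_keys h4 h3 (by rw [h2]; exact i.2) (by rw [h2]; exact j.2) e),
    fun i => inT_of_invFix (allB_spec h1 _ ?_)⟩
  have hi : (i : ℕ) < Data.zWords.length := by rw [h2]; exact i.2
  rw [List.getD_eq_getElem _ _ hi]
  exact List.getElem_mem _

end Cfsg.Agent.HSRecog.Top
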