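import Cfsg.Agent.HSRecog.Top.Cent
import Cfsg.Agent.TwoTransfer.Basic

/-!
A Higman-Sims subgroup that contains the centraliser, of order 7680, of one of its involutions is everything.
-/

set_option autoImplicit false
set_option linter.all false

namespace Cfsg.Agent.HSRecog.Top

open Subgroup Cfsg Cfsg.Agent.HigSims

theorem card_centralizer_map_le {A B : Type*} [Group A] [Group B] (φ : A →* B)
    (hφ : Function.Injective φ) (a : A) :
    Nat.card (centralizer ({a} : Set A)) ∣ Nat.card (centralizer ({φ a} : Set B)) := by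
  have hle : (centralizer ({a} : Set A)).map φ ≤ centralizer ({φ a} : Set B) := by
    rintro _ ⟨x, hx, rfl⟩
    rw [mem_centralizer_singleton_iff, ← map_mul, ← map_mul,
      mem_centralizer_singleton_iff.mp hx]
  have := card_dvd_of_le hle
  rwa [card_map_of_injective hφ] at this

theorem card_centralizer_conj {A : Type*} [Group A] {a b : A} (h : IsConj a b) :
    Nat.card (centralizer ({b} : Set A)) = Nat.card (centralizer ({a} : Set A)) := by
  obtain ⟨g, hg⟩ := isConj_iff.mp h
  rw [← card_centralizer_map (MulAut.conj g) a, show MulAut.conj g a = b from hg]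

/-- A Higman-Sims subgroup containing such a centraliser is everything. -/
theorem eq_top_of_isoHS {G : Type*} [Group G] [Finite G] (G0 : Subgroup G) (hiso : Spor.IsoHS G0) {t : G}
    (htG : t ∈ G0) (hord : orderOf t = 2) (hcen : centralizer ({t} : Set G) ≤ G0)
    (hcard : Nat.card (centralizer ({t} : Set G)) = 7680) : G0 = ⊤ := by
  classical
  obtain ⟨e⟩ := hiso
  set θ : ↥Spor.HS →* G := G0.subtype.comp e.symm.toMonoidHom with hθ
  have hinj : Function.Injective θ := G0.subtype_injective.comp e.symm.injective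
  have hmemθ : ∀ q, θ q ∈ G0 := fun q => (e.symm q).2
  have hsurj : ∀ z ∈ G0, ∃ q, θ q = z := fun z hz => ⟨e ⟨z, hz⟩, by simp [hθ]⟩
  have hconj : ∀ {p q : ↥Spor.HS}, IsConj p q → ∃ a ∈ G0, a * θ p * a⁻¹ = θ q := by
    intro p q h
    obtain ⟨g, hg⟩ := isConj_iff.mp h
    exact ⟨θ g, hmemθ g, by rw [← hg, map_mul, map_mul, map_inv]⟩
  have hC : ∀ {z : G} {a : G}, a ∈ G0 → centralizer ({z} : Set G) ≤ G0 →
      centralizer ({a * z * a⁻¹} : Set G) ≤ G0 := by
    intro z a ha hz x hx
    rw [mem_centralizer_singleton_iff] at hx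
    have hc : a⁻¹ * x * a ∈ centralizer ({z} : Set G) := by
      rw [mem_centralizer_singleton_iff]
      calc a⁻¹ * x * a * z = a⁻¹ * (x * (a * z * a⁻¹)) * a := by group
        _ = a⁻¹ * (a * z * a⁻¹ * x) * a := by rw [hx]
        _ = z * (a⁻¹ * x * a) := by group
    have := G0.mul_mem (G0.mul_mem ha (hz hc)) (G0.inv_mem ha)
    rwa [show a * (a⁻¹ * x * a) * a⁻¹ = x by group] at this
  -- the given involution is in the class of involutions with fixed points
  obtain ⟨τ, hτ⟩ := hsurj t htG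
  have hτord : orderOf τ = 2 := by rw [← orderOf_injective θ hinj, hτ, hord]
  have hcardτ : Nat.card (centralizer ({τ} : Set ↥Spor.HS)) = 7680 := by
    have heq : (centralizer ({τ} : Set ↥Spor.HS)).map θ = centralizer ({t} : Set G) := by
      refine le_antisymm ?_ ?_
      · rintro _ ⟨x, hx, rfl⟩
        rw [mem_centralizer_singleton_iff, ← hτ, ← map_mul, ← map_mul,
          mem_centralizer_singleton_iff.mp hx]
      · intro x hx
        obtain ⟨q, rfl⟩ := hsurj x (hcen hx)
        refine ⟨q, mem_centralizer_singleton_iff.mpr (hinj ?_), rfl⟩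
        rw [map_mul, map_mul, hτ]
        exact mem_centralizer_singleton_iff.mp hx
    rw [← hcard, ← heq, card_map_of_injective hinj]
  have hτu : IsConj uInv τ := by
    refine (conj_cases τ hτord).resolve_left fun h => ?_
    rw [card_centralizer_conj h, card_centralizer] at hcardτ
    norm_num at hcardτ
  -- its centraliser
  obtain ⟨a₀, ha₀, e₀⟩ := hconj hτu.symm
  rw [hτ] at e₀
  set μ := θ uInv with hμ
  set ν := θ tInv with hν
  have hμC : centralizer ({μ} : Set G) ≤ G0 := e₀ ▸ hC ha₀ hcen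
  have hνμ : ¬ IsConj μ ν := by
    intro h
    have hμt : IsConj t μ := isConj_iff.mpr ⟨a₀, e₀⟩
    have h1 := card_centralizer_map_le θ hinj tInv
    rw [card_centralizer, ← hν, card_centralizer_conj (hμt.trans h), hcard] at h1
    norm_num at h1
  have hTC : ∀ q, IsConj uInv q → centralizer ({θ q} : Set G) ≤ G0 := by
    intro q hq
    obtain ⟨a, ha, hqa⟩ := hconj hq
    rw [← hqa]
    exact hC ha hμC
  have hνord : orderOf ν = 2 := by rw [hν, orderOf_injective θ hinj]; exact orderOf_tInv
  have hμord : orderOf μ = 2 := by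
    obtain ⟨g, hg⟩ := isConj_iff.mp hτu
    rw [hμ, orderOf_injective θ hinj, ← hτord, ← hg]
    exact ((MulAut.conj g).orderOf_eq uInv).symm
  -- the class meets the subgroup in one class
  have hmeet : ∀ z ∈ G0, IsConj μ z → ∃ q, θ q = z ∧ IsConj uInv q := by
    intro z hz hc
    obtain ⟨q, rfl⟩ := hsurj z hz
    have hq : orderOf q = 2 := by
      obtain ⟨g, hg⟩ := isConj_iff.mp hc
      rw [← orderOf_injective θ hinj, ← hg, ← hμord]
      exact (MulAut.conj g).orderOf_eq μ
    refine ⟨q, rfl, (conj_cases q hq).resolve_left fun h => hνμ ?_⟩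
    obtain ⟨a, -, ha⟩ := hconj h
    exact hc.trans (isConj_iff.mpr ⟨a, ha⟩).symm
  have hmove : ∀ q, IsConj uInv q → ∀ g, g * θ q * g⁻¹ ∈ G0 → g ∈ G0 := by
    intro q hq g hg
    obtain ⟨a, ha, hqa⟩ := hconj hq
    obtain ⟨q', hq', hqc⟩ := hmeet _ hg
      (IsConj.trans (isConj_iff.mpr ⟨a, hqa⟩) (isConj_iff.mpr ⟨g, rfl⟩))
    obtain ⟨b, hb, hqb⟩ := hconj hqc
    rw [hq', ← hqa] at hqb
    have hc : b⁻¹ * g * a ∈ centralizer ({μ} : Set G) := by
      rw [mem_centralizer_singleton_iff]
      calc b⁻¹ * g * a * μ = b⁻¹ * (g * (a * μ * a⁻¹) * g⁻¹) * (g * a) := by group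
        _ = b⁻¹ * (b * μ * b⁻¹) * (g * a) := by rw [hqb]
        _ = μ * (b⁻¹ * g * a) := by group
    have := G0.mul_mem (G0.mul_mem hb (hμC hc)) (G0.inv_mem ha)
    rwa [show b * (b⁻¹ * g * a) * a⁻¹ = g by group] at this
  -- the centraliser of the other involution
  have hνC : centralizer ({ν} : Set G) ≤ G0 := by
    set X := centralizer ({ν} : Set G) with hX
    set K : Subgroup ↥X := G0.subgroupOf X with hK
    let j : ↥KK → ↥X := fun x => ⟨θ x, by
      rw [hX, mem_centralizer_singleton_iff, hν, ← map_mul, ← map_mul,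
        mem_centralizer_singleton_iff.mp x.2]⟩
    have hjK : ∀ x, j x ∈ K := fun x => hmemθ _
    by_contra hne
    obtain ⟨x₁, hx₁, hx₁'⟩ : ∃ x, x ∈ X ∧ x ∉ G0 := Set.not_subset.mp hne
    set b₀ : ↥X ⧸ K := QuotientGroup.mk 1 with hb₀
    have hbase : ∀ x : ↥X, QuotientGroup.mk x = b₀ ↔ (x : G) ∈ G0 := fun x => by
      rw [hb₀, eq_comm, QuotientGroup.eq, inv_one, one_mul]
      rfl
    obtain ⟨z, hzinj, hzT⟩ := exists_many
    let Q := {p : ↥X ⧸ K // p ≠ b₀}
    haveI : Nonempty Q := ⟨⟨QuotientGroup.mk ⟨x₁, hx₁⟩, fun h => hx₁' ((hbase _).mp h)⟩⟩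
    let y : Q × Fin 64 → ↥X := fun p => p.1.1.out * j (z p.2) * p.1.1.out⁻¹
    have hyinv : ∀ p, y p * y p = 1 := by
      intro p
      have h2 : (z p.2 : ↥Spor.HS) * z p.2 = 1 := by
        obtain ⟨g, hg⟩ := isConj_iff.mp (hzT p.2)
        have hu : uInv * uInv = 1 := by
          apply hinj
          rw [map_mul, map_one, ← sq, ← hμord, ← hμ]
          exact pow_orderOf_eq_one μ
        rw [← hg, show g * uInv * g⁻¹ * (g * uInv * g⁻¹) = g * (uInv * uInv) * g⁻¹ by group, hu, mul_one,
          mul_inv_cancel]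
      have h3 : j (z p.2) * j (z p.2) = 1 := Subtype.ext (by
        show θ _ * θ _ = 1
        rw [← map_mul, h2, map_one])
      show p.1.1.out * j (z p.2) * p.1.1.out⁻¹ * (p.1.1.out * j (z p.2) * p.1.1.out⁻¹) = 1
      rw [show p.1.1.out * j (z p.2) * p.1.1.out⁻¹ * (p.1.1.out * j (z p.2) * p.1.1.out⁻¹) =
        p.1.1.out * (j (z p.2) * j (z p.2)) * p.1.1.out⁻¹ by group, h3, mul_one, mul_inv_cancel]
    have hyinj : Function.Injective y := by
      rintro ⟨q, i⟩ ⟨q', i'⟩ he
      set g := q'.1.out⁻¹ * q.1.out with hg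
      have he' : g * j (z i) * g⁻¹ = j (z i') := by
        rw [hg, show q'.1.out⁻¹ * q.1.out * j (z i) * (q'.1.out⁻¹ * q.1.out)⁻¹ =
          q'.1.out⁻¹ * y (q, i) * q'.1.out by simp only [y]; group, he]
        simp only [y]; group
      have hgG : (g : G) ∈ G0 :=
        hmove _ (hzT i) g (by
          have := congrArg Subtype.val he'
          simp only [Subgroup.coe_mul, InvMemClass.coe_inv] at this
          show (g : G) * θ _ * (g : G)⁻¹ ∈ G0
          rw [show (g : G) * θ (z i : ↥Spor.HS) * (g : G)⁻¹ = θ (z i' : ↥Spor.HS) from this]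
          exact hmemθ _)
      have hq : q = q' := by
        refine Subtype.ext (QuotientGroup.out_eq' q.1 ▸ QuotientGroup.out_eq' q'.1 ▸ ?_)
        exact ((QuotientGroup.eq (s := K)).mpr hgG).symm
      subst hq
      have h1 : j (z i) = j (z i') := mul_left_cancel (mul_right_cancel he)
      rw [Prod.mk.injEq]
      have h2 : θ (z i : ↥Spor.HS) = θ (z i' : ↥Spor.HS) := congrArg (fun x : ↥X => (x : G)) h1
      exact ⟨rfl, hzinj (Subtype.ext (hinj h2))⟩
    have hout : ∀ p, ((y p : ↥X) : G) ∉ G0 := by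
      rintro ⟨q, i⟩ hmem
      refine q.2 (QuotientGroup.out_eq' q.1 ▸ (hbase q.1.out).mpr ?_)
      exact hmove _ (hzT i) _ hmem
    let ψ : Q × Fin 64 → Q := fun p => ⟨QuotientGroup.mk (y p), fun h => hout p ((hbase _).mp h)⟩
    haveI := Fintype.ofFinite Q
    obtain ⟨q, hq⟩ := Fintype.exists_le_card_fiber_of_mul_le_card ψ (n := 64) (by simp)
    let D : Subgroup ↥KK :=
      { carrier := {x | q.1.out⁻¹ * j x * q.1.out ∈ K}
        one_mem' := by
          have : j 1 = 1 := Subtype.ext (map_one θ)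
          show q.1.out⁻¹ * j 1 * q.1.out ∈ K
          rw [this, mul_one, inv_mul_cancel]
          exact one_mem _
        mul_mem' := fun {a b} ha hb => by
          have : j (a * b) = j a * j b := Subtype.ext (map_mul θ _ _)
          show q.1.out⁻¹ * j (a * b) * q.1.out ∈ K
          rw [this, show q.1.out⁻¹ * (j a * j b) * q.1.out =
            (q.1.out⁻¹ * j a * q.1.out) * (q.1.out⁻¹ * j b * q.1.out) by group]
          exact mul_mem ha hb
        inv_mem' := fun {a} ha => by
          have : j a⁻¹ = (j a)⁻¹ := Subtype.ext (map_inv θ _)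
          show q.1.out⁻¹ * j a⁻¹ * q.1.out ∈ K
          rw [this, show q.1.out⁻¹ * (j a)⁻¹ * q.1.out = (q.1.out⁻¹ * j a * q.1.out)⁻¹ by group]
          exact inv_mem ha }
    have hu : uK ∈ D := by
      have e1 : q.1.out⁻¹ * j uK * q.1.out = j uK := by
        apply Subtype.ext
        show (q.1.out : G)⁻¹ * θ tInv * (q.1.out : G) = θ tInv
        rw [← hν, mul_assoc, ← mem_centralizer_singleton_iff.mp q.1.out.2, inv_mul_cancel_left]
      show q.1.out⁻¹ * j uK * q.1.out ∈ K
      rw [e1]
      exact hjK _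
    have hT : ∀ x ∈ D, ¬ InT x := by
      intro x hx hxT
      have := hmove _ hxT (q.1.out : G)⁻¹ (by rw [inv_inv]; exact hx)
      exact q.2 (QuotientGroup.out_eq' q.1 ▸ (hbase q.1.out).mpr (inv_mem_iff.mp this))
    have hsmall := avoid_small D hu hT
    -- the elements of the fibre give elements of `D`
    obtain ⟨p₀, hp₀⟩ : (Finset.univ.filter fun p => ψ p = q).Nonempty :=
      Finset.card_pos.mp (lt_of_lt_of_le (by norm_num) hq)
    have hp₀q : (QuotientGroup.mk (y p₀) : ↥X ⧸ K) = q.1 :=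
      congrArg Subtype.val (Finset.mem_filter.mp hp₀).2
    have hfib : ∀ p : {p // p ∈ Finset.univ.filter fun p => ψ p = q}, ∃ x : D, j x = y p₀ * y p := by
      rintro ⟨p, hp⟩
      have hpq : (QuotientGroup.mk (y p) : ↥X ⧸ K) = q.1 :=
        congrArg Subtype.val (Finset.mem_filter.mp hp).2
      have hinv' : ∀ p', (y p')⁻¹ = y p' := fun p' => inv_eq_of_mul_eq_one_right (hyinv p')
      have hmem : (y p₀ * y p : ↥X) ∈ K := by
        have h1 := QuotientGroup.eq.mp (hp₀q.trans hpq.symm)
        rwa [hinv'] at h1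
      have hout' : (y p : ↥X)⁻¹ * q.1.out ∈ K ∧ (y p₀ : ↥X)⁻¹ * q.1.out ∈ K :=
        ⟨QuotientGroup.eq.mp (hpq.trans (QuotientGroup.out_eq' q.1).symm),
          QuotientGroup.eq.mp (hp₀q.trans (QuotientGroup.out_eq' q.1).symm)⟩
      obtain ⟨w, hw⟩ := hsurj _ hmem
      have hwK : w ∈ KK := by
        rw [mem_centralizer_singleton_iff]
        apply hinj
        rw [map_mul, map_mul, hw, ← hν]
        exact mem_centralizer_singleton_iff.mp (y p₀ * y p : ↥X).2
      have hjw : j ⟨w, hwK⟩ = y p₀ * y p := Subtype.ext hw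
      refine ⟨⟨⟨w, hwK⟩, ?_⟩, hjw⟩
      show q.1.out⁻¹ * j ⟨w, hwK⟩ * q.1.out ∈ K
      rw [hjw]
      rw [hinv', hinv'] at hout'
      have := mul_mem (inv_mem hout'.2) hout'.1
      -- each involution exchanges the two cosets
      have e1 : (y p₀ * q.1.out)⁻¹ * (y p * q.1.out) = q.1.out⁻¹ * (y p₀ * y p) * q.1.out := by
        rw [mul_inv_rev, hinv']; group
      rwa [e1] at this
    choose x hx using hfib
    have hxinj : Function.Injective x := by
      intro p p' e1
      have h2 : y p₀ * y p.1 = y p₀ * y p'.1 := by rw [← hx p, ← hx p', e1]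
      exact Subtype.ext (hyinj (mul_left_cancel h2))
    have := Nat.card_le_card_of_injective x hxinj
    rw [Nat.card_eq_fintype_card, Fintype.card_coe] at this
    omega
  -- every conjugate lies in the subgroup
  have hall : ∀ y, IsConj μ y → y ∈ G0 := by
    intro y hy
    by_contra hyG
    have hyord : orderOf y = 2 := by
      obtain ⟨g, hg⟩ := isConj_iff.mp hy
      rw [← hg, ← hμord]
      exact (MulAut.conj g).orderOf_eq μ
    obtain ⟨m, -, -, hz, hcν, hcy, -⟩ := TwoTransfer.exists_commuting_involution hνord hyord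
      fun h => hνμ (hy.trans h.symm)
    set z := (ν * y) ^ m
    have hzG : z ∈ G0 := hνC (mem_centralizer_singleton_iff.mpr hcν)
    obtain ⟨q, hqz⟩ := hsurj z hzG
    have hq : orderOf q = 2 := by rw [← orderOf_injective θ hinj, hqz, hz]
    have hymem : y ∈ centralizer ({θ q} : Set G) :=
      mem_centralizer_singleton_iff.mpr (hqz.symm ▸ hcy.symm)
    rcases conj_cases q hq with h | h
    · obtain ⟨a, ha, hqa⟩ := hconj h
      exact hyG (hC ha hνC (hqa.symm ▸ hymem))
    · exact hyG (hTC q h hymem)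
  -- Frattini
  refine eq_top_iff.mpr fun g _ => hmove uInv (IsConj.refl _) g ?_
  exact hall _ (isConj_iff.mpr ⟨g, rfl⟩)

end Cfsg.Agent.HSRecog.Top
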